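import Groth.Agent.CBLib.RankEval
import Groth.Agent.CMRegLib.Koszul
import Groth.Agent.ProjBundleLib.FTQuot
import Groth.Agent.AmpleLib.GenLocus

/-!
# Multiplication data of a globally generated invertible module
-/

set_option autoImplicit false
set_option backward.isDefEq.respectTransparency false
set_option linter.style.haveILetI false
set_option maxHeartbeats 1000000
set_option synthInstance.maxHeartbeats 200000

universe u

open CategoryTheory CategoryTheory.Limits AlgebraicGeometry TopologicalSpace Opposite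
open Groth.Agent.PullbackMod Groth.Agent.DCohLib
open Groth.Agent.ParaFLib (oneG bijective_oneG Gen)
open scoped TensorProduct

noncomputable section

namespace Groth.Agent.SecMulLib

variable {X : Scheme.{u}} {L : X.Modules}

theorem stalkLin_secHom_oneG (σ : Γ(L, ⊤)) (x : X) :
    stalkLin (DCohLib.secHom L σ) x (oneG x) = L.presheaf.germ ⊤ x trivial σ :=
  (stalkLin_germ (DCohLib.secHom L σ) (U := ⊤) x trivial _).trans
    (congrArg (L.presheaf.germ ⊤ x trivial) (AmpleLib.sec_secHom σ))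

/-- Twisting by a section. -/
def twSec (σ : Γ(L, ⊤)) (M : X.Modules) : M ⟶ tmod M L := (CBLib.secTw (DCohLib.secHom L σ)).app M

/-- Twisting by a section on stalks. -/
theorem stalkLin_secTw (σ : Γ(L, ⊤)) (M : X.Modules) (x : X) (m : M.presheaf.stalk x) :
    stalkLin (twSec σ M) x m =
      stalkTensor x M L (TensorProduct.tmul _ m (L.presheaf.germ ⊤ x trivial σ)) := by
  let u := (ModTensor.tensorUnitRight X.sheaf).app M
  have h1 : stalkLin u.inv x m = stalkTensor x M (Coh.structureModule X) (TensorProduct.tmul _ m (oneG x)) :=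
    (TwistShriek.stalkLin_runit_bijective M x).1
      ((TwistShriek.stalkLin_inv_apply u x m).trans (LocFreeHomLib.runitMap_stalk M x m).symm)
  show stalkLin (u.inv ≫ ((DCoh.tensorBi (X := X)).obj M).map (DCohLib.secHom L σ)) x m = _
  rw [stalkLin_comp, LinearMap.comp_apply, h1]
  refine (stalkTensor_natural_right x (DCohLib.secHom L σ) (TensorProduct.tmul (X.presheaf.stalk x) m (oneG x))).trans ?_
  rw [LinearMap.lTensor_tmul, stalkLin_secHom_oneG]

theorem secTw_app_top (σ : Γ(L, ⊤)) (M : X.Modules) (c : Γ(M, ⊤)) :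
    (twSec σ M).app ⊤ c =
      (SecTwist.tmul M L ⊤ c σ : Γ(tmod M L, ⊤)) := by
  refine TopCat.Presheaf.section_ext (⟨(tmod M L).presheaf, (tmod M L).isSheaf⟩ : TopCat.Sheaf Ab X) ⊤ _ _
    fun x _ => ?_
  refine (stalkLin_germ (twSec σ M) (U := ⊤) x trivial c).symm.trans ?_
  rw [stalkLin_secTw]
  exact (stalkTensorHom_tmul x (U := ⊤) trivial c σ).trans rfl

/-- The locus where a section generates. -/
abbrev locus (σ : Γ(L, ⊤)) : X.Opens := CohB1.genLocus L (DCohLib.secHom L σ)

theorem isGen_of_mem_locus (hL : PicF.IsInvertible L) {σ : Γ(L, ⊤)} {x : X} (hx : x ∈ locus σ) :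
    KoszTwLib.IsGen L x (L.presheaf.germ ⊤ x trivial σ) := by
  have := (AmpleLib.mem_genLocus_iff hL).1 hx
  rwa [AmpleLib.sec_secHom] at this

theorem gen_locus (hL : PicF.IsInvertible L) (σ : Γ(L, ⊤)) :
    Gen (locus σ) (L.presheaf.map (homOfLE (le_top : locus σ ≤ ⊤)).op σ) := fun O hO => by
  have hb := ProjCoh.app_bijective_of_stalk (DCohLib.secHom L σ) (U := locus σ) (fun x hx => by
    refine ⟨fun a b hab => ?_, fun m => ?_⟩
    · obtain ⟨r, rfl⟩ := (bijective_oneG x).2 a
      obtain ⟨r', rfl⟩ := (bijective_oneG x).2 b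
      change stalkLin _ x (r • oneG x) = stalkLin _ x (r' • oneG x) at hab
      rw [map_smul, map_smul, stalkLin_secHom_oneG] at hab
      exact congrArg (· • oneG x) ((isGen_of_mem_locus hL hx).1 hab)
    · obtain ⟨r, hr⟩ := (isGen_of_mem_locus hL hx).2 m
      exact ⟨r • oneG x, by rw [map_smul, stalkLin_secHom_oneG]; exact hr⟩) hO
  have e : (fun r : Γ(X, O) => r • L.presheaf.map (homOfLE hO).op (L.presheaf.map (homOfLE (le_top : locus σ ≤ ⊤)).op σ)) =
      fun r => (DCohLib.secHom L σ).app O r := funext fun r => by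
    refine Eq.trans ?_ (AmpleLib.app_eq (DCohLib.secHom L σ) O r).symm
    rw [AmpleLib.sec_secHom, AmpleLib.resT, ParaFLib.res_res]
  show Function.Bijective _
  rw [e]
  exact hb

theorem exists_ratio (hL : PicF.IsInvertible L) {n : ℕ} (σ : Fin n → Γ(L, ⊤)) (i a : Fin n) :
    ∃ t : Γ(X, locus (σ i)), t • L.presheaf.map (homOfLE (le_top : locus (σ i) ≤ ⊤)).op (σ i) =
      L.presheaf.map (homOfLE (le_top : locus (σ i) ≤ ⊤)).op (σ a) := by
  obtain ⟨t, ht⟩ := (gen_locus hL (σ i) _ le_rfl).2 (L.presheaf.map (homOfLE (le_top : locus (σ i) ≤ ⊤)).op (σ a))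
  exact ⟨t, by simpa only [ParaFLib.res_res] using ht⟩

/-- The multiplication data of sections generating an invertible module. -/
def mulData (hL : PicF.IsInvertible L) {n : ℕ} (σ : Fin n → Γ(L, ⊤)) (hcov : ⨆ i, locus (σ i) = ⊤)
    (F : ℤ → X.Modules) (τ : ∀ d, tmod (F (d - 1)) L ≅ F d) : ProjCoh.MulData X (Fin n) where
  U i := locus (σ i)
  cover := hcov
  F := F
  μ a d := twSec (σ a) (F (d - 1)) ≫ (τ d).hom
  t i a := (exists_ratio hL σ i a).choose
  t_open i a := by
    rw [← AmpleLib.genLocus_inf_eq_basicOpen (DCohLib.secHom L (σ a)) (gen_locus hL (σ i))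
      (a := (exists_ratio hL σ i a).choose) (by rw [AmpleLib.sec_secHom]; exact (exists_ratio hL σ i a).choose_spec)]
    exact inf_comm _ _
  bij i d x hx := by
    rw [stalkLin_comp, LinearMap.coe_comp]
    refine Function.Bijective.comp
      ⟨(mono_iff_stalk (τ d).hom).1 inferInstance x, (epi_iff_stalk (τ d).hom).1 inferInstance x⟩ ?_
    have h := SnapperCutLib.bijective_tgen (F (d - 1)) (isGen_of_mem_locus hL hx)
    rw [show (stalkLin (twSec (σ i) (F (d - 1))) x : _ → _) = _ from funext (stalkLin_secTw (σ i) _ x)]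
    exact h
  ratio i a d x hx z := by
    rw [stalkLin_comp, stalkLin_comp, LinearMap.comp_apply, LinearMap.comp_apply, stalkLin_secTw, stalkLin_secTw,
      ← map_smul, ← map_smul, TensorProduct.smul_tmul', TensorProduct.smul_tmul]
    refine congrArg (fun v => stalkLin (τ d).hom x (stalkTensor x (F (d - 1)) L (TensorProduct.tmul _ z v))) ?_
    have h := congrArg (L.presheaf.germ (locus (σ i)) x hx) (exists_ratio hL σ i a).choose_spec
    rw [ParaFLib.germ_smul', TopCat.Presheaf.germ_res_apply, TopCat.Presheaf.germ_res_apply] at h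
    exact h.symm

open CMRegLib in
theorem stage_neg {ι : Type} (T : ProjCoh.MulData X ι) :
    ∀ (l : List ι) (d j : ℤ), j < -(l.length : ℤ) → IsZero (((stage T l).K d).X j)
  | [], d, j, hj => HomologicalComplex.isZero_single_obj_X _ _ _ _ (by simp at hj; omega)
  | a :: l, d, j, hj => IsZero.of_iso (biprod_isZero_iff _ _ |>.2
      ⟨stage_neg T l _ _ (by simp at hj; omega), stage_neg T l _ _ (by simp at hj; omega)⟩) (coneXIso _ j)

open CMRegLib in
/-- The Koszul surjectivity, with the vanishing needed only up to the number of sections. -/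
theorem koszul_surj_le {n : ℕ} (T : ProjCoh.MulData X (Fin n)) (d : ℤ)
    (h : ∀ e : ℕ, e + 2 ≤ n → Subsingleton (Coh.HH X (T.F (d - (2 + e : ℕ))) (1 + e))) (s : Γ(T.F d, ⊤)) :
    mulSum T d s := by
  classical
  let S := stage T (Finset.univ : Finset (Fin n)).toList
  have hK := acyclic_stage T _ (fun i => Finset.mem_toList.2 (Finset.mem_univ i)) d
  have hN : ∀ j : ℤ, j < -(n : ℤ) → IsZero ((S.K d).X j) := fun j hj =>
    stage_neg T _ d j (by simpa using hj)
  have h1 : Subsingleton (Coh.HH X ((S.K d).cycles (-1)) 1) := by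
    simpa using subsingleton_cycles (S.K d) hK hN (n + 1) 1 (by omega) 1 fun e => by
      by_cases he : e + 2 ≤ n
      · refine subsingleton_term S _ _ _ ?_
        have := h e he
        rwa [show d + -(((1 + 1 + e : ℕ)) : ℤ) = d - ((2 + e : ℕ) : ℤ) by push_cast; ring]
      · exact subsingleton_zero (hN _ (by push_cast; omega)) _
  have hse := shortExact_cycles (S.K d) hK (-1) 0 (by norm_num)
  haveI := (S.K d).isIso_iCycles 0 1 (by simp) ((S.pos d 1 zero_lt_one).eq_of_tgt _ _)
  haveI := S.isoε d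
  obtain ⟨z, hz⟩ := @CohBase.sections_surjective _ _ _ (QCohLib.toAb_shortExact hse) ⊤
    (SerreAff.subsingleton_HU_top h1)
    ((inv (S.ε d) ≫ inv ((S.K d).iCycles 0)).app ⊤ s)
  have := img_stage T _ d z
  convert this using 2
  show s = (((S.K d).d (-1) 0) ≫ S.ε d).app ⊤ z
  rw [← (S.K d).toCycles_i (-1) 0]
  show s = (S.ε d).app ⊤ (((S.K d).iCycles 0).app ⊤ (((S.K d).toCycles (-1) 0).app ⊤ z))
  rw [show ((S.K d).toCycles (-1) 0).app ⊤ z = _ from hz]
  exact (congr($(show (inv (S.ε d) ≫ inv ((S.K d).iCycles 0)) ≫ (S.K d).iCycles 0 ≫ S.ε d = 𝟙 _ by simp).app ⊤ s)).symm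

/-- The powers, negative ones by the inverse. -/
def pw (L M : X.Modules) : ℤ → X.Modules
  | Int.ofNat n => CohB1.tensorPow L n
  | Int.negSucc n => CohB1.tensorPow M (n + 1)

theorem nonempty_pw_succ {M : X.Modules} (δ : CohB1.tensorMod M L ≅ Coh.structureModule X) :
    ∀ d : ℤ, Nonempty (CohB1.tensorMod (pw L M (d - 1)) L ≅ pw L M d)
  | Int.ofNat (n + 1) => by
    rw [show Int.ofNat (n + 1) - 1 = Int.ofNat n from add_sub_cancel_right (n : ℤ) 1]
    exact ⟨Iso.refl _⟩
  | Int.ofNat 0 => by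
    rw [show Int.ofNat 0 - 1 = Int.negSucc 0 from rfl]
    exact ⟨AmpleLib.tIso (AmpleLib.powOne M) (Iso.refl L) ≪≫ δ⟩
  | Int.negSucc n => by
    rw [show Int.negSucc n - 1 = Int.negSucc (n + 1) from rfl]
    exact ⟨AmpleLib.assoc (CohB1.tensorPow M (n + 1)) M L ≪≫ AmpleLib.tIso (Iso.refl _) δ ≪≫ AmpleLib.unitR _⟩

theorem iSup_locus_eq_top (k : Type u) [Field k] [X.Over (Spec (CommRingCat.of k))] (hL : PicF.IsInvertible L)
    (hgg : Curv2.IsGloballyGenerated L) {n : ℕ} (c : Fin n → Coh.HH X L 0)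
    (hc : Submodule.span k (Set.range c) = ⊤) : ⨆ i, locus (CBLib.h0sec L (c i)) = ⊤ := by
  refine eq_top_iff.2 fun x _ => ?_
  rw [Opens.mem_iSup]
  by_contra! hx
  obtain ⟨e, he'⟩ := ParaFLib.exists_stalk_gen hL x
  have he : KoszTwLib.IsGen L x e := he'
  let N : Submodule (X.presheaf.stalk x) (L.presheaf.stalk x) :=
    Submodule.comap (CBLib.coord he).toLinearMap (IsLocalRing.maximalIdeal (X.presheaf.stalk x))
  have hg : ∀ i, CBLib.gst L x (c i) ∈ N := fun i => by
    by_contra hu
    refine hx i ((AmpleLib.mem_genLocus_iff hL).2 ?_)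
    rw [AmpleLib.sec_secHom, ← CBLib.gst_eq, ← CBLib.coord_spec (L := L) he (CBLib.gst L x (c i))]
    obtain ⟨v, hv⟩ : IsUnit (CBLib.coord he (CBLib.gst L x (c i))) := not_not.1 hu
    rw [← hv]
    have e1 : (fun r : X.presheaf.stalk x => r • v.1 • e) = (fun r => r • e) ∘ fun r => r * v.1 :=
      funext fun r => smul_smul r v.1 e
    rw [e1]
    exact he'.comp v.mulRight.bijective
  have hall : ∀ d : Coh.HH X L 0, CBLib.gst L x d ∈ N := fun d => by
    have hd : d ∈ Submodule.span k (Set.range c) := hc ▸ Submodule.mem_top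
    induction hd using Submodule.span_induction with
    | mem d hd => obtain ⟨i, rfl⟩ := hd; exact hg i
    | zero =>
      rw [CBLib.gst_eq, map_zero, map_zero]
      exact zero_mem N
    | add a b _ _ ha hb => rw [CBLib.gst_add]; exact add_mem ha hb
    | smul r a _ ha => rw [CBLib.gst_smul k]; exact N.smul_mem _ ha
  have htop : N = ⊤ := top_le_iff.1 ((ProjBundleLib.span_germ_of_isGloballyGenerated hgg x).ge.trans
    (Submodule.span_le.2 (by
      rintro _ ⟨σ, rfl⟩
      have := hall ((CBLib.h0sec L).symm σ)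
      rwa [CBLib.gst_eq, AddEquiv.apply_symm_apply] at this)))
  have he1 : e ∈ N := htop ▸ Submodule.mem_top
  have h1 : CBLib.coord (L := L) he e ∈ IsLocalRing.maximalIdeal (X.presheaf.stalk x) := he1
  rw [show CBLib.coord he e = 1 from
    (congrArg (CBLib.coord he) (one_smul (X.presheaf.stalk x) e).symm).trans (CBLib.coord_smul he 1)] at h1
  exact h1 isUnit_one

/-- Multiplication of sections of a twist with generating sections is surjective. -/
theorem surjective_mult (k : Type u) [Field k] [X.Over (Spec (CommRingCat.of k))]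
    [Module.Finite k (Coh.HH X L 0)] (hL : PicF.IsInvertible L)
    (hgg : Curv2.IsGloballyGenerated L) (F : ℤ → X.Modules) (τ : ∀ d, tmod (F (d - 1)) L ≅ F d)
    (d : ℤ) (A : X.Modules) (hA : F (d - 1) = A)
    (hvan : ∀ e : ℕ, e + 2 ≤ Module.finrank k (Coh.HH X L 0) →
      Subsingleton (Coh.HH X (F (d - (2 + e : ℕ))) (1 + e))) :
    Function.Surjective
      ((toSheafify (Opens.grothendieckTopology X) (CohB1.tensorPre A L).presheaf).app (op ⊤)) := by
  subst hA
  let B := Module.finBasis k (Coh.HH X L 0)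
  let σ := fun i => CBLib.h0sec L (B i)
  let T := mulData hL σ (iSup_locus_eq_top k hL hgg B B.span_eq) F τ
  intro z
  suffices hs : ∀ z : Γ(tmod (F (d - 1)) L, ⊤),
      z ∈ AddSubgroup.closure (Set.range fun p : Γ(F (d - 1), ⊤) × Γ(L, ⊤) =>
        (SecTwist.tmul (F (d - 1)) L ⊤ p.1 p.2 : Γ(tmod (F (d - 1)) L, ⊤))) by
    have hz := hs z
    induction hz using AddSubgroup.closure_induction with
    | mem z hz =>
      obtain ⟨⟨a, b⟩, rfl⟩ := hz
      exact ⟨a ⊗ₜ b, rfl⟩
    | zero => exact ⟨0, map_zero _⟩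
    | add a b _ _ ha hb =>
      obtain ⟨a', ha'⟩ := ha
      obtain ⟨b', hb'⟩ := hb
      exact ⟨a' + b', (map_add _ _ _).trans (congrArg₂ (· + ·) ha' hb')⟩
    | neg a _ ha =>
      obtain ⟨a', ha'⟩ := ha
      exact ⟨-a', (map_neg _ _).trans (congrArg Neg.neg ha')⟩
  intro z
  obtain ⟨c, hc⟩ := koszul_surj_le T d hvan ((τ d).hom.app ⊤ z)
  have h : z = ∑ a, (twSec (σ a) (F (d - 1))).app ⊤ (c a) := by
    apply (ConcreteCategory.bijective_of_isIso ((τ d).hom.app ⊤)).1
    rw [map_sum]
    exact hc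
  rw [h]
  refine sum_mem fun a _ => ?_
  rw [secTw_app_top]
  exact AddSubgroup.subset_closure ⟨(c a, σ a), rfl⟩

end Groth.Agent.SecMulLib
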